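import Groth.Agent.GenusZero5.Family
import Groth.Agent.EllGrp5.AlgZero
import Groth.Agent.Coherent.CohBC.FibreField
import Groth.Agent.P1Lib24.Basic

/-!
# Criteria for families of genus zero curves
-/

set_option autoImplicit false
set_option linter.style.haveILetI false
set_option backward.isDefEq.respectTransparency.types false

universe u

open CategoryTheory CategoryTheory.Limits AlgebraicGeometry TopologicalSpace
open Groth.Agent.Coherent

namespace Groth.Agent.GenusZero5

variable {X S : Scheme.{u}} (f : X ⟶ S)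

theorem exists_geomPoint (s : S) : ∃ (Ω : Type u) (_ : Field Ω) (_ : IsAlgClosed Ω)
    (b : Spec (CommRingCat.of Ω) ⟶ S), b (IsLocalRing.closedPoint Ω) = s :=
  ⟨AlgebraicClosure (S.residueField s), inferInstance, inferInstance,
    Spec.map (CommRingCat.ofHom (algebraMap (S.residueField s) _)) ≫ S.fromSpecResidueField s, by
      rw [Scheme.Hom.comp_apply, Scheme.fromSpecResidueField_apply]⟩

theorem geomZero_of_projLine [IsProper f]
    (hfib : ∀ (Ω : Type u) [Field Ω] [IsAlgClosed Ω] (b : Spec (CommRingCat.of Ω) ⟶ S),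
      ∃ e : pullback f b ≅ CohB1.ProjSpace 1 Ω, e.hom ≫ CohB1.ProjSpace.toSpec 1 Ω = pullback.snd f b) :
    GeomZero f := by
  intro s
  obtain ⟨Ω, _, _, b, hb⟩ := exists_geomPoint s
  obtain ⟨e, he⟩ := hfib Ω b
  letI : (pullback f b).Over (Spec (CommRingCat.of Ω)) := ⟨pullback.snd f b⟩
  haveI : IsProper (pullback f b ↘ Spec (CommRingCat.of Ω)) := inferInstanceAs (IsProper (pullback.snd f b))
  haveI := CurveLib.isIntegral_projSpace Ω 1
  haveI : ConnectedSpace ↥(CohB1.ProjSpace 1 Ω) := inferInstance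
  exact ⟨Ω, inferInstance, b, hb, e.inv.surjective.connectedSpace e.inv.continuous,
    CurveRR24.genus_of_iso_projLine Ω e he⟩

theorem geomZero_of_integral
    (hfib : ∀ (K : Type u) [Field K] [IsAlgClosed K] (x : Spec (CommRingCat.of K) ⟶ S),
      IsIntegral (pullback f x) ∧ topologicalKrullDim ↥(pullback f x) = 1 ∧
        @Curv2.genus K _ (pullback f x) ⟨pullback.snd f x⟩ = 0) : GeomZero f := by
  intro s
  obtain ⟨Ω, _, _, b, hb⟩ := exists_geomPoint s
  obtain ⟨h1, -, h3⟩ := hfib Ω b
  exact ⟨Ω, inferInstance, b, hb, inferInstance, h3⟩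

theorem fibre_dim_eq {Ω : Type u} [Field Ω] [IsProper f] (b : Spec (CommRingCat.of Ω) ⟶ S) :
    topologicalKrullDim ↥(f.fiber (b (IsLocalRing.closedPoint Ω))) = topologicalKrullDim ↥(pullback f b) := by
  let π := pullback.snd f b
  haveI : Subsingleton (Spec (CommRingCat.of Ω)) := inferInstanceAs (Subsingleton (PrimeSpectrum Ω))
  rw [← Coherent.CohBC.topologicalKrullDim_fiber_of_isPullback (IsPullback.of_hasPullback f b)
    (IsLocalRing.closedPoint Ω)]
  have hb : Function.Bijective (π.fiberι (IsLocalRing.closedPoint Ω)) :=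
    ⟨(π.fiberι (IsLocalRing.closedPoint Ω)).isEmbedding.injective, fun x =>
      (π.range_fiberι (IsLocalRing.closedPoint Ω)).ge (Subsingleton.elim _ _)⟩
  exact IsHomeomorph.topologicalKrullDim_eq _
    ((isHomeomorph_iff_isEmbedding_surjective).2 ⟨(π.fiberι (IsLocalRing.closedPoint Ω)).isEmbedding, hb.2⟩)

end Groth.Agent.GenusZero5
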