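import Groth.Agent.GenusZero5.Field
import Groth.Agent.EllGrp5.Degree
import Groth.Agent.PicLib.BasisOn
import Groth.Agent.RelVALib.UPGen

/-!
# The direct image of a degree one module on a family of genus zero curves
-/

set_option autoImplicit false
set_option linter.style.haveILetI false
set_option linter.unusedSectionVars false
set_option backward.isDefEq.respectTransparency.types false

universe u

open CategoryTheory CategoryTheory.Limits AlgebraicGeometry Opposite TopologicalSpace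
open Groth.Agent.Coherent Groth.Agent.PicLib Groth.Agent.AmpleLib Groth.Agent.EllGrp5

namespace Groth.Agent.GenusZero5

variable {X S : Scheme.{u}} (f : X ⟶ S) [IsProper f] [SmoothOfRelativeDimension 1 f] [GeometricallyConnected f]
  (hg : ∀ s : S, CohIII.fiberRank f (Coh.structureModule X) 1 s = 0)
  {N : X.Modules} (hN : PicF.IsInvertible N) (hd : ∀ s, dg f s (PicM.of hN) = 1)

include hN in
theorem flat_N : FlatMod.IsFlatOver f N :=
  haveI := smooth_f f
  CohBC.isFlatOver_of_isFinLocFree f fun x =>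
    let ⟨U, hx, e⟩ := PicLib.isFinLocFreeOfRank_one hN x
    ⟨U, 1, hx, e⟩

include hg in
theorem genus_fibre (s : S) :
    letI := Clifford24.fibreOver f s
    Curv2.genus (S.residueField s) (f.fiber s) = 0 :=
  letI := Clifford24.fibreOver f s
  (CohBC.finrank_HH_congr (S.residueField s) (PicLoc.pullbackStructureIso (f.fiberι s)).symm 1).trans (hg s)

include hg hd

theorem ranks (s : S) : CohIII.fiberRank f N 0 s = 2 ∧ CohIII.fiberRank f N 1 s = 0 := by
  letI := Clifford24.fibreOver f s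
  obtain ⟨i1, i2, i3⟩ := fibre_inst f s
  haveI : IsProper (f.fiber s ↘ Spec (CommRingCat.of (S.residueField s))) := i1
  haveI : SmoothOfRelativeDimension 1 (f.fiber s ↘ Spec (CommRingCat.of (S.residueField s))) := i2
  haveI : GeometricallyConnected (f.fiber s ↘ Spec (CommRingCat.of (S.residueField s))) := i3
  have hd' := hd s
  rw [dg_of] at hd'
  exact h0_h1_deg_one (S.residueField s) (genus_fibre f hg s) (isInvertible_fibre f hN s) hd'

theorem exists_flat_chart₀ (s : S) : ∃ C : CohExch.Chart f N, s ∈ C.U ∧ C.Flat ((0 : ℕ) : ℤ) := by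
  haveI := smooth_f f
  haveI := H8Coh.FibreAmple.isQCoh_of_invertible hN
  obtain ⟨C, hC, -, -, h0, -⟩ := CohExch.exists_zero_chart (H8Coh.FibreAmple.isFP_of_invertible hN)
    (flat_N f hN) (V := ⊤) (s := s) trivial 1
    ((CohExch.subsingleton_fiberH_iff_rank (H8Coh.FibreAmple.isFP_of_invertible hN) s 1).2 (ranks f hg hN hd s).2)
  exact ⟨C, hC, by simpa using h0⟩

theorem push_locFree : FlatMod.IsFinLocFreeOfRank 2 ((Scheme.Modules.pushforward f).obj N) := fun s => by
  haveI := smooth_f f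
  haveI := H8Coh.FibreAmple.isQCoh_of_invertible hN
  obtain ⟨C, hC, h0⟩ := exists_flat_chart₀ f hg hN hd s
  obtain ⟨W, n, hW, ⟨e⟩⟩ := C.exists_trivial_nhd0 h0 hC
  have hn : n = 2 := (C.fiberRank_eq_of_free (flat_N f hN) h0 hC hW e).symm.trans (ranks f hg hN hd s).1
  subst hn
  exact ⟨W, hW, ⟨e⟩⟩

theorem isIso_bc0 {T XT : Scheme.{u}} {g : T ⟶ S} {g' : XT ⟶ X} {f' : XT ⟶ T}
    (h : IsPullback g' f' f g) : IsIso (CohBC.bc0 f g f' g' h.w N) := by
  haveI := H8Coh.FibreAmple.isQCoh_of_invertible hN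
  exact CohExch.isIso_bc0_of_flat h fun z => exists_flat_chart₀ f hg hN hd (g z)

theorem isFinLocFree_push : FlatMod.IsFinLocFree ((Scheme.Modules.pushforward f).obj N) := fun s =>
  let ⟨U, hU, e⟩ := push_locFree f hg hN hd s
  ⟨U, 2, hU, e⟩

/-- Near every point a section of the direct image generates. -/
theorem exists_gen (x : X) :
    ∃ (U : S.Opens) (e : Γ((Scheme.Modules.pushforward f).obj N, U)) (W : X.Opens) (hW : W ≤ f ⁻¹ᵁ U),
      x ∈ W ∧ IsGen N W (resM N hW (show Γ(N, f ⁻¹ᵁ U) from e)) := by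
  classical
  let E := (Scheme.Modules.pushforward f).obj N
  obtain ⟨U, n, e, hxU, hb⟩ := exists_isBasisOn (isFinLocFree_push f hg hN hd) (f x)
  obtain ⟨V, hxV, g, hg'⟩ := exists_isGen hN x
  let W := V ⊓ f ⁻¹ᵁ U
  have hxW : x ∈ W := ⟨hxV, hxU⟩
  have hgW : IsGen N W (resM N inf_le_left g) := hg'.restrict inf_le_left
  let c : ULift.{u} (Fin n) → Γ(X, W) := fun i =>
    hgW.coef le_rfl (resM N inf_le_right (show Γ(N, f ⁻¹ᵁ U) from e i))
  suffices hex : ∃ i, x ∈ X.basicOpen (c i) by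
    obtain ⟨i, hi⟩ := hex
    have hle : X.basicOpen (c i) ≤ W := X.basicOpen_le _
    refine ⟨U, e i, X.basicOpen (c i), hle.trans inf_le_right, hi, ?_⟩
    have hu : IsUnit (res hle (c i)) := RingedSpace.isUnit_res_basicOpen _ (c i)
    have hs := hgW.coef_spec le_rfl (resM N inf_le_right (show Γ(N, f ⁻¹ᵁ U) from e i))
    rw [resM_self] at hs
    have h1 := congrArg (resM N hle) hs
    rw [resM_smul, resM_resM, resM_resM] at h1
    rw [← h1]
    have h2 := (hgW.restrict hle).smul_unit hu.unit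
    rw [IsUnit.unit_spec, resM_resM] at h2
    exact h2
  by_contra hne
  push Not at hne
  haveI := smooth_f f
  let s := f x
  letI := Clifford24.fibreOver f s
  obtain ⟨i1, i2, i3⟩ := fibre_inst f s
  haveI : IsProper (f.fiber s ↘ Spec (CommRingCat.of (S.residueField s))) := i1
  haveI : SmoothOfRelativeDimension 1 (f.fiber s ↘ Spec (CommRingCat.of (S.residueField s))) := i2
  haveI : GeometricallyConnected (f.fiber s ↘ Spec (CommRingCat.of (S.residueField s))) := i3
  have hd' := hd s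
  rw [dg_of] at hd'
  obtain ⟨z, hz⟩ : ∃ z, f.fiberι s z = x := ⟨f.asFiber x, f.fiberι_asFiber x⟩
  let Ns := CohIII.fiberMod f N s
  have hNs := isInvertible_fibre f hN s
  obtain ⟨t, ht⟩ := exists_mem_glocus (S.residueField s) (genus_fibre f hg s) hNs hd' z
  let ξ := S.fromSpecResidueField s
  have hsq : IsPullback (f.fiberι s) (f.fiberToSpecResidueField s) f ξ := IsPullback.of_hasPullback f ξ
  haveI := isIso_bc0 f hg hN hd hsq
  let φ := CohBC.bc0 f ξ (f.fiberToSpecResidueField s) (f.fiberι s) hsq.w N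
  have hbp := IsBasisOn.pull ξ hb
  have htop : (⊤ : (Spec (S.residueField s)).Opens) ≤ ξ ⁻¹ᵁ U := fun y _ => by
    show ξ y ∈ U
    rw [S.fromSpecResidueField_apply s y]
    exact hxU
  obtain ⟨t', ht'⟩ := (ConcreteCategory.bijective_of_isIso (φ.app ⊤)).2
    (show Γ((Scheme.Modules.pushforward (f.fiberToSpecResidueField s)).obj Ns, ⊤) from t)
  obtain ⟨a, ha⟩ := (hbp htop).2 t'
  rw [← ha, map_sum] at ht'
  let O : (f.fiber s).Opens := f.fiberι s ⁻¹ᵁ W
  have hzO : z ∈ O := by show f.fiberι s z ∈ W; rw [hz]; exact hxW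
  have hgO := isGen_pullSec (f.fiberι s) hgW hN
  have hOU : O ≤ f.fiberι s ⁻¹ᵁ (f ⁻¹ᵁ U) := fun y hy => hy.2
  have hres : resM Ns (le_top : O ≤ ⊤) t = ∑ i, (res (show O ≤ f.fiberToSpecResidueField s ⁻¹ᵁ ⊤ from le_top)
      ((f.fiberToSpecResidueField s).app ⊤ (a i)) * (show Γ(f.fiber s, O) from (f.fiberι s).app W (c i))) •
      pullSec (f.fiberι s) (resM N inf_le_left g) := by
    refine (congrArg (resM Ns (le_top : O ≤ ⊤)) ht'.symm).trans ?_
    erw [map_sum]
    refine Finset.sum_congr rfl fun i _ => ?_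
    rw [Scheme.Modules.Hom.app_smul, app_resM]
    erw [CohExch.bc0_pullSec hsq.w N U (show Γ(N, f ⁻¹ᵁ U) from e i)]
    show resM Ns (le_top : O ≤ ⊤) (HSMul.hSMul (α := Γ(f.fiber s, ⊤)) (β := Γ(Ns, ⊤)) (γ := Γ(Ns, ⊤))
      ((f.fiberToSpecResidueField s).app ⊤ (a i)) (resM Ns
        (show (⊤ : (f.fiber s).Opens) ≤ f.fiberToSpecResidueField s ⁻¹ᵁ (ξ ⁻¹ᵁ U) from fun y hy => htop hy)
        (resM Ns (show f.fiberToSpecResidueField s ⁻¹ᵁ (ξ ⁻¹ᵁ U) ≤ f.fiberι s ⁻¹ᵁ (f ⁻¹ᵁ U) from fun y _ => by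
            show f (f.fiberι s y) ∈ U; rw [show f (f.fiberι s y) = s from (f.range_fiberι s).le ⟨y, rfl⟩]; exact hxU)
          (pullSec (f.fiberι s) (show Γ(N, f ⁻¹ᵁ U) from e i))))) = _
    rw [resM_smul, resM_resM, resM_resM, mul_smul]
    refine congrArg (_ • ·) ?_
    have hs := hgW.coef_spec le_rfl (resM N inf_le_right (show Γ(N, f ⁻¹ᵁ U) from e i))
    rw [resM_self] at hs
    have h1 := congrArg (pullSec (f.fiberι s)) hs
    rw [pullSec_smul] at h1
    refine Eq.trans ?_ h1.symm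
    rw [← resM_pullSec]
  have hco : ((hgO.coef le_rfl (resM Ns (le_top : O ≤ ⊤) t))) =
      ∑ i, res (show O ≤ f.fiberToSpecResidueField s ⁻¹ᵁ ⊤ from le_top)
        ((f.fiberToSpecResidueField s).app ⊤ (a i)) * (show Γ(f.fiber s, O) from (f.fiberι s).app W (c i)) :=
    hgO.coef_eq le_rfl (by rw [resM_self, Finset.sum_smul]; exact hres.symm)
  have hmem : z ∈ (f.fiber s).basicOpen (hgO.coef le_rfl (resM Ns (le_top : O ≤ ⊤) t)) := by
    rw [← glocus_inf t hgO]
    exact ⟨ht, hzO⟩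
  rw [Scheme.mem_basicOpen _ _ _ hzO, hco, map_sum] at hmem
  refine IsLocalRing.notMem_maximalIdeal.2 hmem (Ideal.sum_mem _ fun i _ => ?_)
  rw [map_mul]
  refine Ideal.mul_mem_left _ _ ?_
  rw [IsLocalRing.mem_maximalIdeal, mem_nonunits_iff]
  intro hu
  refine hne i ?_
  have : z ∈ (f.fiber s).basicOpen ((f.fiberι s).app W (c i)) := (Scheme.mem_basicOpen _ _ _ hzO).2 hu
  rw [← Scheme.preimage_basicOpen] at this
  exact hz ▸ this

/-- The evaluation map is surjective. -/
theorem epi_counit : Epi ((Scheme.Modules.pullbackPushforwardAdjunction f).counit.app N) := by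
  have h := RelVALib.epi_of_exists_gen (L := N) f (𝟙 ((Scheme.Modules.pushforward f).obj N)) fun x => by
    obtain ⟨U, e, W, hW, hxW, hgen⟩ := exists_gen f hg hN hd x
    exact ⟨U, e, W, hW, hxW, hgen⟩
  rwa [Adjunction.homEquiv_symm_id] at h

end Groth.Agent.GenusZero5
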