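import Groth.Agent.GenusZero5.Push
import Groth.Agent.CycLib28.PB.SubBundle
import Groth.Agent.CycLib28.PB.Exists
import Groth.Agent.ProjBundle14.LocalTriv
import Groth.Agent.Quot8.TwistMap
import Groth.Agent.Dual22Lib.ProjSmooth
import Groth.Agent.FlatMor12.FibreFlat

/-!
# A family of genus zero curves with a degree one module is the projective bundle of its direct image
-/

set_option autoImplicit false
set_option linter.style.haveILetI false
set_option linter.unusedSectionVars false
set_option backward.isDefEq.respectTransparency.types false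
set_option maxHeartbeats 800000

universe u

open CategoryTheory CategoryTheory.Limits AlgebraicGeometry Opposite TopologicalSpace
open Groth.Agent.Coherent Groth.Agent.PicLib Groth.Agent.AmpleLib Groth.Agent.EllGrp5

namespace Groth.Agent.GenusZero5

/-- The projective bundle property passes along an isomorphism. -/
theorem isProjBundle_of_iso {X P B : Scheme.{u}} {p : P ⟶ B} {E : B.Modules} {O1 : P.Modules}
    {q : (Scheme.Modules.pullback p).obj E ⟶ O1} (hP : KRR.IsProjBundle p E O1 q)
    {f : X ⟶ B} (h : X ⟶ P) [IsIso h] (hf : h ≫ p = f) {N : X.Modules} (hN : PicF.IsInvertible N)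
    (e : (Scheme.Modules.pullback h).obj O1 ≅ N) {qX : (Scheme.Modules.pullback f).obj E ⟶ N} [Epi qX]
    (cond : (Scheme.Modules.pullbackCongr hf).inv.app E ≫ (Scheme.Modules.pullbackComp h p).inv.app E ≫
      (Scheme.Modules.pullback h).map q ≫ e.hom = qX) :
    KRR.IsProjBundle f E N qX := by
  subst hf
  have he : (Scheme.Modules.pullbackComp h p).inv.app E ≫ (Scheme.Modules.pullback h).map q ≫ e.hom =
      (Scheme.Modules.pullback (h ≫ p)).map (𝟙 E) ≫ qX := by
    rw [← cond]
    simp [Scheme.Modules.pullbackCongr]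
  refine ⟨PicLib.isFinLocFreeOfRank_one hN, inferInstance, fun T g L hL s hs => ?_⟩
  -- the condition after composing with `h`
  have key : ∀ (k : T ⟶ X) (hk : k ≫ h ≫ p = g),
      (Scheme.Modules.pullbackCongr hk).inv.app E ≫ (Scheme.Modules.pullbackComp k (h ≫ p)).inv.app E ≫
          (Scheme.Modules.pullback k).map qX =
        (Scheme.Modules.pullbackCongr ((Category.assoc k h p).trans hk)).inv.app E ≫
          (Scheme.Modules.pullbackComp (k ≫ h) p).inv.app E ≫ (Scheme.Modules.pullback (k ≫ h)).map q ≫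
            (Scheme.Modules.pullbackComp k h).inv.app O1 ≫ (Scheme.Modules.pullback k).map e.hom := by
    intro k hk
    subst hk
    have h1 := CycLib28.PB.compat_pullback he k
    rw [CategoryTheory.Functor.map_id, Category.id_comp] at h1
    simpa [Scheme.Modules.pullbackCongr] using h1
  let R : (T ⟶ P) → Prop := fun a => ∃ (ha : a ≫ p = g) (e0 : (Scheme.Modules.pullback a).obj O1 ≅ L),
    (Scheme.Modules.pullbackCongr ha).inv.app E ≫ (Scheme.Modules.pullbackComp a p).inv.app E ≫
      (Scheme.Modules.pullback a).map q ≫ e0.hom = s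
  obtain ⟨h0, hh0, huniq⟩ := hP.univ T g L hL s hs
  have hR : R ((h0 ≫ inv h) ≫ h) := by
    rw [Category.assoc, IsIso.inv_hom_id, Category.comp_id]
    exact hh0
  refine ⟨h0 ≫ inv h, ?_, fun k ⟨hk, ek, hek⟩ => ?_⟩
  · obtain ⟨ha, e0, hc⟩ := hR
    refine ⟨(Category.assoc _ h p).symm.trans ha,
      ((Scheme.Modules.pullback (h0 ≫ inv h)).mapIso e).symm ≪≫
        (Scheme.Modules.pullbackComp (h0 ≫ inv h) h).app O1 ≪≫ e0, ?_⟩
    rw [← hc, reassoc_of% (key _ ((Category.assoc _ h p).symm.trans ha))]
    simp only [Iso.trans_hom, Iso.symm_hom, Functor.mapIso_inv, Iso.app_hom]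
    rw [← Functor.map_comp_assoc, Iso.hom_inv_id, CategoryTheory.Functor.map_id, Category.id_comp,
      Iso.inv_hom_id_app_assoc]
  · have h1 : R (k ≫ h) := by
      refine ⟨(Category.assoc k h p).trans hk, ((Scheme.Modules.pullbackComp k h).app O1).symm ≪≫
        (Scheme.Modules.pullback k).mapIso e ≪≫ ek, ?_⟩
      rw [← hek, reassoc_of% (key k hk)]
      simp only [Iso.trans_hom, Iso.symm_hom, Functor.mapIso_hom, Iso.app_inv]
    have h2 := huniq (k ≫ h) h1
    rw [← h2, Category.assoc, IsIso.hom_inv_id, Category.comp_id]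

variable {X S : Scheme.{u}} (f : X ⟶ S) [IsProper f] [SmoothOfRelativeDimension 1 f] [GeometricallyConnected f]
  (hg : ∀ s : S, CohIII.fiberRank f (Coh.structureModule X) 1 s = 0)
  {N : X.Modules} (hN : PicF.IsInvertible N) (hd : ∀ s, dg f s (PicM.of hN) = 1)

include hg hd

/-- A genus zero family with a degree one module is a projective bundle. -/
theorem isProjBundle_push :
    KRR.IsProjBundle f ((Scheme.Modules.pushforward f).obj N) N
      ((Scheme.Modules.pullbackPushforwardAdjunction f).counit.app N) := by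
  classical
  haveI := smooth_f f
  let E := (Scheme.Modules.pushforward f).obj N
  have hE : FlatMod.IsFinLocFreeOfRank 2 E := push_locFree f hg hN hd
  haveI := epi_counit f hg hN hd
  haveI := CycLib28.PB.isQCoh_of_rank hE
  obtain ⟨P, p, O1, q, hP, hpr⟩ := CycLib28.PB.exists_projBundle hE
  obtain ⟨h, ⟨hf, e, cond⟩, -⟩ := hP.univ X f N (PicLib.isFinLocFreeOfRank_one hN)
    ((Scheme.Modules.pullbackPushforwardAdjunction f).counit.app N) inferInstance
  suffices IsIso h from isProjBundle_of_iso hP h hf hN e cond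
  -- local squares with the projective line
  have hsqs : ∀ s : S, ∃ (U : S.Opens) (hU : IsAffineOpen U) (g : CohB1.ProjSpace 1 Γ(S, U) ⟶ P),
      s ∈ U ∧ IsPullback g (CohB1.ProjSpace.toSpec 1 Γ(S, U)) p hU.fromSpec ∧
        Nonempty ((Scheme.Modules.pullback g).obj O1 ≅ Twist.twistProjSpace 1 Γ(S, U) 1) := by
    intro s
    obtain ⟨W, hsW, ⟨eW⟩⟩ := hE s
    obtain ⟨U, hU, hsU, hUW⟩ := exists_isAffineOpen_mem_and_subset (x := s) (U := W) hsW
    obtain ⟨b⟩ := Props12.exists_basis_sections eW hUW
    obtain ⟨g, hg1, hg2⟩ := ProjBundle14.exists_projSquare hP hU b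
    exact ⟨U, hU, g, hsU, hg1, hg2⟩
  choose U hU g hsU hsq hO using hsqs
  haveI : Smooth p := by
    let 𝒰 : S.OpenCover := Scheme.Cover.mkOfCovers S (fun s => Spec Γ(S, U s)) (fun s => (hU s).fromSpec)
      (fun s => ⟨s, (hU s).range_fromSpec.ge (hsU s)⟩) (fun s => inferInstance)
    refine IsZariskiLocalAtTarget.of_openCover (P := @Smooth) 𝒰 fun s => ?_
    show Smooth (pullback.snd p (hU s).fromSpec)
    rw [← (hsq s).isoPullback_inv_snd, MorphismProperty.cancel_left_of_respectsIso (P := @Smooth)]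
    exact Dual22Lib.ProjSmooth.smooth_toSpec 1 _
  haveI : Flat (h ≫ p) := by rw [hf]; infer_instance
  haveI : LocallyOfFinitePresentation (h ≫ p) := by rw [hf]; infer_instance
  rw [FlatMor12.isIso_iff_fibres h p]
  intro s
  let K := S.residueField s
  let R := Γ(S, U s)
  let ξ := S.fromSpecResidueField s
  let ξ' : Spec K ⟶ Spec R := IsOpenImmersion.lift (hU s).fromSpec ξ
    (by rw [Scheme.range_fromSpecResidueField, (hU s).range_fromSpec]; exact Set.singleton_subset_iff.2 (hsU s))
  have hξ' : ξ' ≫ (hU s).fromSpec = ξ := IsOpenImmersion.lift_fac _ _ _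
  letI : Algebra R K := (Spec.preimage ξ').hom.toAlgebra
  have hξm : Spec.map (CommRingCat.ofHom (algebraMap R K)) = ξ' := Spec.map_preimage ξ'
  let pc := Quot8.projChange 1 R K
  have hpc := Coherent.isPullback_projSpace 1 R K
  rw [hξm] at hpc
  have hbig : IsPullback (pc ≫ g s) (CohB1.ProjSpace.toSpec 1 K) p ξ := by
    rw [← hξ']; exact hpc.paste_horiz (hsq s)
  have hX : IsPullback (f.fiberι s) (f.fiberToSpecResidueField s) f ξ := IsPullback.of_hasPullback f ξ
  let r : f.fiber s ⟶ CohB1.ProjSpace 1 K := hbig.lift (f.fiberι s ≫ h) (f.fiberToSpecResidueField s)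
    (by rw [Category.assoc, hf]; exact hX.w)
  have hr1 : r ≫ pc ≫ g s = f.fiberι s ≫ h := hbig.lift_fst _ _ _
  have hr2 : r ≫ CohB1.ProjSpace.toSpec 1 K = f.fiberToSpecResidueField s := hbig.lift_snd _ _ _
  have hXh : IsPullback (f.fiberι s) r h (pc ≫ g s) :=
    IsPullback.of_bot (by rw [hr2, hf]; exact hX) hr1.symm hbig
  haveI : IsIso r := by
    letI := Clifford24.fibreOver f s
    obtain ⟨i1, i2, i3⟩ := fibre_inst f s
    haveI : IsProper (f.fiber s ↘ Spec (CommRingCat.of (S.residueField s))) := i1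
    haveI : SmoothOfRelativeDimension 1 (f.fiber s ↘ Spec (CommRingCat.of (S.residueField s))) := i2
    haveI : GeometricallyConnected (f.fiber s ↘ Spec (CommRingCat.of (S.residueField s))) := i3
    haveI := isIntegral_curve (S.residueField s) (X := f.fiber s)
    have hd' := hd s
    rw [dg_of] at hd'
    obtain ⟨eO⟩ := hO s
    obtain ⟨eT⟩ := Quot8.nonempty_pullback_twistProjSpace 1 R K 1
    refine isIso_of_deg_one (S.residueField s) (dim_curve (S.residueField s)) r hr2 ?_
    refine Eq.trans (CurveRR24.deg_congr (S.residueField s) ?_ 1) hd'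
    exact (Scheme.Modules.pullback r).mapIso (eT.symm ≪≫ (Scheme.Modules.pullback pc).mapIso eO.symm ≪≫
        (Scheme.Modules.pullbackComp pc (g s)).app O1) ≪≫
      (Scheme.Modules.pullbackComp r (pc ≫ g s)).app O1 ≪≫
      (Scheme.Modules.pullbackCongr hr1).app O1 ≪≫
      ((Scheme.Modules.pullbackComp (f.fiberι s) h).app O1).symm ≪≫
      (Scheme.Modules.pullback (f.fiberι s)).mapIso e
  let ψ := hbig.isoPullback
  have hXh' : IsPullback (f.fiberι s) (r ≫ ψ.hom) h (p.fiberι s) :=
    hXh.of_iso (Iso.refl _) (Iso.refl _) ψ (Iso.refl _) (by simp) (by simp) (by simp)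
      (by rw [Iso.refl_hom, Category.comp_id]; exact hbig.isoPullback_hom_fst.symm)
  have h2 := hXh'.isoPullback_inv_snd
  have h3 : IsIso (hXh'.isoPullback.inv ≫ r ≫ ψ.hom) := inferInstance
  rw [h2] at h3
  exact h3

end Groth.Agent.GenusZero5
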