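import Groth.Agent.GenusZero5.Examples
import Groth.Agent.EssDimP1.Genus0
import Groth.Agent.AlgGrpLib.AntiAffine
import Mathlib.AlgebraicGeometry.Sites.Fpqc
import Groth.Prelude.Def_ModFun

/-!
# The point is a coarse moduli scheme of curves of genus zero
-/

set_option autoImplicit false
set_option linter.style.haveILetI false
set_option linter.unusedSectionVars false
set_option backward.isDefEq.respectTransparency.types false
set_option maxHeartbeats 1000000

universe u

open CategoryTheory CategoryTheory.Limits AlgebraicGeometry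
open Groth.Agent.Coherent

namespace Groth.Agent.GenusZero5

theorem isCurveOfGenus_pullback {C T T' : Scheme.{u}} {g : ℕ} {p : C ⟶ T} (hp : ModFun.IsCurveOfGenus g p)
    (h : T' ⟶ T) : ModFun.IsCurveOfGenus g (pullback.snd p h) := by
  obtain ⟨h1, h2, h3, h4⟩ := hp
  refine ⟨MorphismProperty.pullback_snd (P := @Smooth) _ _ h1, MorphismProperty.pullback_snd (P := @IsProper) _ _ h2,
    MorphismProperty.pullback_snd (P := @GeometricallyIrreducible) _ _ h3, fun Ω _ _ t X i q hsq => ?_⟩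
  exact h4 Ω (t ≫ h) X (i ≫ pullback.fst p h) q (hsq.paste_horiz (IsPullback.of_hasPullback p h))

/-- A genus zero family with a section is a line near every point. -/
theorem exists_local_line {C T : Scheme.{u}} {p : C ⟶ T} (hp : ModFun.IsCurveOfGenus 0 p)
    (σ : T ⟶ C) (hσ : σ ≫ p = 𝟙 T) (t : T) :
    ∃ U : T.Opens, ∃ hU : IsAffineOpen U, t ∈ U ∧ ∃ e : pullback p hU.fromSpec ≅ CohB1.ProjSpace 1 Γ(T, U),
      e.hom ≫ CohB1.ProjSpace.toSpec 1 Γ(T, U) = pullback.snd p hU.fromSpec := by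
  obtain ⟨hsm, hpr, hgi, hfib⟩ := hp
  haveI := hsm; haveI := hpr; haveI := hgi
  have h0 : GeomZero p := fun s => by
    obtain ⟨Ω, _, _, b, hb⟩ := exists_geomPoint s
    haveI : IrreducibleSpace ↥(pullback p b) :=
      GeometricallyIrreducible.geometrically_irreducibleSpace _ _ _ (IsPullback.of_hasPullback p b)
    exact ⟨Ω, inferInstance, b, hb, inferInstance, (hfib Ω b _ _ _ (IsPullback.of_hasPullback p b)).2⟩
  haveI := geometricallyConnected p h0 σ hσ
  haveI : SmoothOfRelativeDimension 1 p := EllGrp5.smoothRD_of_fibre_dim p fun s => by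
    obtain ⟨Ω, _, _, b, rfl⟩ := exists_geomPoint s
    exact (fibre_dim_eq p b).trans (hfib Ω b _ _ _ (IsPullback.of_hasPullback p b)).1
  obtain ⟨N, hN, -, -, hE, hP⟩ := exists_projBundle p h0 σ hσ
  haveI := CycLib28.PB.isQCoh_of_rank hE
  obtain ⟨U, hU, htU, h⟩ := exists_trivialisation p hP hE t
  exact ⟨U, hU, htU, h Γ(T, U) inferInstance hU.fromSpec hU.range_fromSpec.le⟩

variable (k : Type u) [Field k]

/-- The point. -/
noncomputable abbrev pt : Over (Spec (CommRingCat.of k)) := Over.mk (𝟙 (Spec (CommRingCat.of k)))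

/-- The line over the point. -/
noncomputable abbrev line : (ModFun.Mg (Spec (CommRingCat.of k)) 0).Fam (pt k) :=
  (Over.mk (CohB1.ProjSpace.toSpec 1 k) : Over (Spec (CommRingCat.of k)))

/-- The map of the genus zero problem to the point. -/
noncomputable def toPt : (ModFun.Mg (Spec (CommRingCat.of k)) 0).Hom ⊤ (pt k) where
  app T _ _ _ := Over.homMk T.hom (Category.comp_id _)
  natural {T T'} g x hT hT' hx hx' := by
    apply Over.OverMorphism.ext
    exact (Over.w g).symm
  resp _ _ _ _ _ _ := rfl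

theorem app_pullback_of_trivial {k : Type u} [Field k] {N : Over (Spec (CommRingCat.of k))}
    (ψ : (ModFun.Mg (Spec (CommRingCat.of k)) 0).Hom
      (fun T : Over (Spec (CommRingCat.of k)) => LocallyOfFiniteType T.hom ∧ QuasiCompact T.hom) N)
    {T : Over (Spec (CommRingCat.of k))} (hT : LocallyOfFiniteType T.hom ∧ QuasiCompact T.hom)
    (C : Over T.left) (hC : True ∧ ModFun.IsCurveOfGenus 0 C.hom) (a : T ⟶ pt k) (h0 : LocallyOfFiniteType (pt k).hom ∧ QuasiCompact (pt k).hom)
    (h1 : True ∧ ModFun.IsCurveOfGenus 0 (CohB1.ProjSpace.toSpec 1 k))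
    (e : C ≅ (Over.pullback a.left).obj (Over.mk (CohB1.ProjSpace.toSpec 1 k) : Over (Spec (CommRingCat.of k)))) :
    ψ.app T C hT hC = a ≫ ψ.app (pt k) (line k) h0 h1 := by
  have hx' : True ∧ ModFun.IsCurveOfGenus 0
      ((Over.pullback a.left).obj (Over.mk (CohB1.ProjSpace.toSpec 1 k) : Over (Spec (CommRingCat.of k)))).hom :=
    ⟨trivial, isCurveOfGenus_pullback h1.2 a.left⟩
  exact (ψ.resp C _ hT hC hx' ⟨e⟩).trans (ψ.natural a (line k) h0 hT h1 hx')

theorem app_of_section {k : Type u} [Field k] {N : Over (Spec (CommRingCat.of k))}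
    (ψ : (ModFun.Mg (Spec (CommRingCat.of k)) 0).Hom
      (fun T : Over (Spec (CommRingCat.of k)) => LocallyOfFiniteType T.hom ∧ QuasiCompact T.hom) N)
    {T : Over (Spec (CommRingCat.of k))} (hT : LocallyOfFiniteType T.hom ∧ QuasiCompact T.hom)
    (C : Over T.left) (hC : True ∧ ModFun.IsCurveOfGenus 0 C.hom) (σ : T.left ⟶ C.left) (hσ : σ ≫ C.hom = 𝟙 _)
    (h0 : LocallyOfFiniteType (pt k).hom ∧ QuasiCompact (pt k).hom)
    (h1 : True ∧ ModFun.IsCurveOfGenus 0 (CohB1.ProjSpace.toSpec 1 k)) :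
    ψ.app T C hT hC = (toPt k).app T C trivial hC ≫ ψ.app (pt k) (line k) h0 h1 := by
  apply Over.OverMorphism.ext
  haveI := hT.1
  choose U hU htU e he using exists_local_line hC.2 σ hσ
  have hcov : ⨆ x, U x = ⊤ := top_le_iff.1 fun x _ => TopologicalSpace.Opens.mem_iSup.2 ⟨x, htU x⟩
  refine (Scheme.openCoverOfIsOpenCover T.left U hcov).hom_ext _ _ fun t => ?_
  show (U t).ι ≫ _ = (U t).ι ≫ _
  rw [← cancel_epi (hU t).isoSpec.inv, ← Category.assoc, ← Category.assoc]
  show (hU t).fromSpec ≫ _ = (hU t).fromSpec ≫ _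
  let R := Γ(T.left, U t)
  let b : Spec R ⟶ Spec (CommRingCat.of k) := (hU t).fromSpec ≫ T.hom
  let T' : Over (Spec (CommRingCat.of k)) := Over.mk b
  let j : T' ⟶ T := Over.homMk (hU t).fromSpec rfl
  let a : T' ⟶ pt k := Over.homMk b (Category.comp_id _)
  have hT' : LocallyOfFiniteType T'.hom ∧ QuasiCompact T'.hom :=
    ⟨inferInstanceAs (LocallyOfFiniteType ((hU t).fromSpec ≫ T.hom)), inferInstanceAs (QuasiCompact b)⟩
  have hx' : True ∧ ModFun.IsCurveOfGenus 0 ((Over.pullback j.left).obj C).hom :=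
    ⟨trivial, isCurveOfGenus_pullback hC.2 j.left⟩
  letI : Algebra k R := (Spec.preimage b).hom.toAlgebra
  have hb : Spec.map (CommRingCat.ofHom (algebraMap k R)) = b := Spec.map_preimage b
  have hpc := Coherent.isPullback_projSpace 1 k R
  rw [hb] at hpc
  let θ : (Over.pullback j.left).obj C ≅
      (Over.pullback a.left).obj (Over.mk (CohB1.ProjSpace.toSpec 1 k) : Over (Spec (CommRingCat.of k))) :=
    Over.isoMk (e t ≪≫ hpc.isoPullback) (by
      show (e t ≪≫ hpc.isoPullback).hom ≫ pullback.snd _ _ = pullback.snd C.hom (hU t).fromSpec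
      rw [Iso.trans_hom, Category.assoc]
      exact (congrArg ((e t).hom ≫ ·) hpc.isoPullback_hom_snd).trans (he t))
  have key := app_pullback_of_trivial ψ hT' _ hx' a h0 h1 θ
  have hnat := ψ.natural j C hT hT' hC hx'
  exact congrArg CommaMorphism.left (hnat.symm.trans key) |>.trans (Category.assoc _ _ _)

theorem app_eq {k : Type u} [Field k] {N : Over (Spec (CommRingCat.of k))}
    (ψ : (ModFun.Mg (Spec (CommRingCat.of k)) 0).Hom
      (fun T : Over (Spec (CommRingCat.of k)) => LocallyOfFiniteType T.hom ∧ QuasiCompact T.hom) N)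
    {T : Over (Spec (CommRingCat.of k))} (hT : LocallyOfFiniteType T.hom ∧ QuasiCompact T.hom)
    (C : Over T.left) (hC : True ∧ ModFun.IsCurveOfGenus 0 C.hom)
    (h0 : LocallyOfFiniteType (pt k).hom ∧ QuasiCompact (pt k).hom)
    (h1 : True ∧ ModFun.IsCurveOfGenus 0 (CohB1.ProjSpace.toSpec 1 k)) :
    ψ.app T C hT hC = (toPt k).app T C trivial hC ≫ ψ.app (pt k) (line k) h0 h1 := by
  haveI := hT.1
  haveI := hT.2
  haveI := hC.2.1
  haveI := hC.2.2.1
  haveI := hC.2.2.2.1
  let T' : Over (Spec (CommRingCat.of k)) := Over.mk (C.hom ≫ T.hom)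
  let g : T' ⟶ T := Over.homMk C.hom rfl
  have hT' : LocallyOfFiniteType T'.hom ∧ QuasiCompact T'.hom :=
    ⟨inferInstanceAs (LocallyOfFiniteType (C.hom ≫ T.hom)), inferInstanceAs (QuasiCompact (C.hom ≫ T.hom))⟩
  have hx' : True ∧ ModFun.IsCurveOfGenus 0 ((Over.pullback g.left).obj C).hom :=
    ⟨trivial, isCurveOfGenus_pullback hC.2 g.left⟩
  have key := app_of_section ψ hT' _ hx' (pullback.lift (𝟙 _) (𝟙 _) rfl) (pullback.lift_snd _ _ _) h0 h1
  have key := (ψ.natural g C hT hT' hC hx').symm.trans key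
  apply Over.OverMorphism.ext
  haveI : Epi C.hom := inferInstance
  rw [← cancel_epi C.hom]
  exact (congrArg CommaMorphism.left key).trans (Category.assoc _ _ _)

/-- The universal property of the point. -/
theorem isBestApprox_toPt :
    ModFun.IsBestApprox (fun T : Over (Spec (CommRingCat.of k)) => LocallyOfFiniteType T.hom ∧ QuasiCompact T.hom)
      (ModFun.Mg (Spec (CommRingCat.of k)) 0) (pt k) ((toPt k).ofLE le_top) := by
  intro N ψ
  have h0 : LocallyOfFiniteType (pt k).hom ∧ QuasiCompact (pt k).hom :=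
    ⟨inferInstanceAs (LocallyOfFiniteType (𝟙 _)), inferInstanceAs (QuasiCompact (𝟙 _))⟩
  have h1 : True ∧ ModFun.IsCurveOfGenus 0 (CohB1.ProjSpace.toSpec 1 k) :=
    ⟨trivial, EssDimP1.isCurveOfGenus_projLine k⟩
  refine ⟨ψ.app (pt k) (line k) h0 h1, fun T x hT hx => app_eq ψ hT x hx h0 h1, fun f hf => ?_⟩
  refine ((hf (pt k) (line k) h0 h1).trans ?_).symm
  exact (congrArg (· ≫ f) (show (Over.homMk (pt k).hom (Category.comp_id _) : pt k ⟶ pt k) = 𝟙 _ from rfl)).trans
    (Category.id_comp f)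

theorem geomBij_toPt : ModFun.GeomBij (ModFun.Mg (Spec (CommRingCat.of k)) 0) (pt k) (toPt k) := by
  intro Ω _ _ t _
  refine ⟨fun g => ⟨(Over.mk (CohB1.ProjSpace.toSpec 1 Ω) : Over (Spec (CommRingCat.of Ω))),
    ⟨trivial, EssDimP1.isCurveOfGenus_projLine Ω⟩, ?_⟩, fun x y hx hy _ => ?_⟩
  · apply Over.OverMorphism.ext
    exact ((Category.comp_id g.left).symm.trans (Over.w g)).symm
  · have key : ∀ z : Over (Spec (CommRingCat.of Ω)), ModFun.IsCurveOfGenus 0 z.hom →
        Nonempty (z ≅ Over.mk (CohB1.ProjSpace.toSpec 1 Ω)) := by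
      intro z hz
      haveI := hz.2.1
      haveI := hz.2.2.1
      haveI : Subsingleton (Spec (CommRingCat.of Ω)) := inferInstanceAs (Subsingleton (PrimeSpectrum Ω))
      haveI : Nonempty (Spec (CommRingCat.of Ω)) := inferInstanceAs (Nonempty (PrimeSpectrum Ω))
      haveI : Nonempty z.left := ⟨(Scheme.Hom.surjective z.hom (Classical.arbitrary _)).choose⟩
      obtain ⟨s⟩ := AlgGrpLib.exists_rationalPoint z
      obtain ⟨e, he⟩ := EssDimP1.exists_iso_projLine_of_section z.hom hz s.left (Over.w s)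
      exact ⟨Over.isoMk e he⟩
    obtain ⟨e⟩ := key x hx.2
    obtain ⟨e'⟩ := key y hy.2
    exact ⟨e ≪≫ e'.symm⟩

end Groth.Agent.GenusZero5
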