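import Groth.Agent.GenusZero5.Bundle
import Groth.Agent.PicBC5.Abel
import Groth.Agent.AbSchLib.ConnectedFibres

/-!
# Families of genus zero curves with a section
-/

set_option autoImplicit false
set_option linter.style.haveILetI false
set_option linter.unusedSectionVars false
set_option backward.isDefEq.respectTransparency.types false

universe u

open CategoryTheory CategoryTheory.Limits AlgebraicGeometry Opposite TopologicalSpace
open Groth.Agent.Coherent Groth.Agent.PicLib Groth.Agent.AmpleLib Groth.Agent.EllGrp5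

namespace Groth.Agent.GenusZero5

variable {X S : Scheme.{u}} (f : X ⟶ S)

/-- Over every point some geometric fibre is a connected curve of genus zero. -/
def GeomZero : Prop :=
  ∀ s : S, ∃ (Ω : Type u) (_ : Field Ω) (b : Spec (CommRingCat.of Ω) ⟶ S),
    b (IsLocalRing.closedPoint Ω) = s ∧ ConnectedSpace ↥(pullback f b) ∧
      @Curv2.genus Ω _ (pullback f b) ⟨pullback.snd f b⟩ = 0

/-- Points with values in fields factor through the residue field. -/
theorem exists_residue_lift {Ω : Type u} [Field Ω] (b : Spec (CommRingCat.of Ω) ⟶ S) :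
    ∃ r : Spec (CommRingCat.of Ω) ⟶ Spec (S.residueField (b (IsLocalRing.closedPoint Ω))),
      r ≫ S.fromSpecResidueField (b (IsLocalRing.closedPoint Ω)) = b :=
  ⟨Spec.map (Scheme.descResidueField (Scheme.stalkClosedPointTo b)),
    Scheme.descResidueField_stalkClosedPointTo_fromSpecResidueField Ω S b⟩

theorem connected_fibre (h : GeomZero f) (s : S) : ConnectedSpace ↥(f.fiber s) := by
  obtain ⟨Ω, _, b, rfl, hc, -⟩ := h s
  obtain ⟨r, hr⟩ := exists_residue_lift b
  let ξ := S.fromSpecResidueField (b (IsLocalRing.closedPoint Ω))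
  haveI : Subsingleton (Spec (S.residueField (b (IsLocalRing.closedPoint Ω)))) :=
    inferInstanceAs (Subsingleton (PrimeSpectrum (S.residueField _)))
  haveI : Surjective r := ⟨fun y => ⟨IsLocalRing.closedPoint Ω, Subsingleton.elim _ _⟩⟩
  let e : pullback (f.fiberToSpecResidueField (b (IsLocalRing.closedPoint Ω))) r ≅ pullback f b :=
    pullbackLeftPullbackSndIso f ξ r ≪≫ pullback.congrHom rfl hr
  haveI : Surjective (pullback.fst (f.fiberToSpecResidueField (b (IsLocalRing.closedPoint Ω))) r) :=
    MorphismProperty.pullback_fst (P := @Surjective) _ _ inferInstance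
  exact (Scheme.Hom.surjective (e.inv ≫ pullback.fst (f.fiberToSpecResidueField _) r)).connectedSpace
    (e.inv ≫ pullback.fst (f.fiberToSpecResidueField _) r).continuous

theorem geometricallyConnected (h : GeomZero f) (σ : S ⟶ X) (hσ : σ ≫ f = 𝟙 S) : GeometricallyConnected f :=
  AbSchLib.geometricallyConnected_of_section f σ hσ (connected_fibre f h)

variable [IsProper f] [SmoothOfRelativeDimension 1 f] [GeometricallyConnected f]

theorem fiberRank_zero (h : GeomZero f) (s : S) : CohIII.fiberRank f (Coh.structureModule X) 1 s = 0 := by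
  obtain ⟨Ω, _, b, rfl, -, hg⟩ := h s
  exact (PicBC5.finrank_h1_geom f b).symm.trans hg

/-- A genus zero family with a section is a projective bundle. -/
theorem exists_projBundle (h : GeomZero f) (σ : S ⟶ X) (hσ : σ ≫ f = 𝟙 S) :
    ∃ (N : X.Modules) (hN : PicF.IsInvertible N), PicM.of hN * idl f σ hσ = 1 ∧
      (∀ s, dg f s (PicM.of hN) = 1) ∧
      FlatMod.IsFinLocFreeOfRank 2 ((Scheme.Modules.pushforward f).obj N) ∧
      KRR.IsProjBundle f ((Scheme.Modules.pushforward f).obj N) N
        ((Scheme.Modules.pullbackPushforwardAdjunction f).counit.app N) := by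
  obtain ⟨b, hb⟩ := PicM.exists_mul_eq_one (idl f σ hσ)
  obtain ⟨N, hN, rfl⟩ := PicM.exists_eq_of b
  have hd : ∀ s, dg f s (PicM.of hN) = 1 := fun s => by rw [dg_inv f hb, dg_idl f σ hσ, neg_neg]
  exact ⟨N, hN, (mul_comm _ _).trans hb, hd, push_locFree f (fiberRank_zero f h) hN hd,
    isProjBundle_push f (fiberRank_zero f h) hN hd⟩

omit [IsProper f] [SmoothOfRelativeDimension 1 f] [GeometricallyConnected f] in
/-- A bundle of rank two trivialises as a line over every ring mapping into a small neighbourhood. -/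
theorem exists_trivialisation {E : S.Modules} {O1 : X.Modules} {q : (Scheme.Modules.pullback f).obj E ⟶ O1}
    [Coh.IsQCoh E] (hP : KRR.IsProjBundle f E O1 q) (hE : FlatMod.IsFinLocFreeOfRank 2 E) (s : S) :
    ∃ U : S.Opens, IsAffineOpen U ∧ s ∈ U ∧ ∀ (C : Type u) (_ : CommRing C) (i : Spec (CommRingCat.of C) ⟶ S),
      Set.range i ⊆ U → ∃ e : pullback f i ≅ CohB1.ProjSpace 1 C,
        e.hom ≫ CohB1.ProjSpace.toSpec 1 C = pullback.snd f i := by
  obtain ⟨W, hsW, ⟨eW⟩⟩ := hE s
  obtain ⟨U, hU, hsU, hUW⟩ := exists_isAffineOpen_mem_and_subset (x := s) (U := W) hsW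
  obtain ⟨b⟩ := Props12.exists_basis_sections eW hUW
  obtain ⟨g, hg, -⟩ := ProjBundle14.exists_projSquare hP hU b
  refine ⟨U, hU, hsU, fun C _ i hi => ?_⟩
  let R := Γ(S, U)
  let i' : Spec (CommRingCat.of C) ⟶ Spec R := IsOpenImmersion.lift hU.fromSpec i
    (by rw [hU.range_fromSpec]; exact hi)
  have hi' : i' ≫ hU.fromSpec = i := IsOpenImmersion.lift_fac _ _ _
  letI : Algebra R C := (Spec.preimage i').hom.toAlgebra
  have him : Spec.map (CommRingCat.ofHom (algebraMap R C)) = i' := Spec.map_preimage i'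
  have hpc := Coherent.isPullback_projSpace 1 R C
  rw [him] at hpc
  have hbig : IsPullback (Quot8.projChange 1 R C ≫ g) (CohB1.ProjSpace.toSpec 1 C) f i := by
    rw [← hi']; exact hpc.paste_horiz hg
  exact ⟨hbig.isoPullback.symm, hbig.isoPullback_inv_snd⟩

end Groth.Agent.GenusZero5
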