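import Groth.Agent.CurveRR24.DoubleCover.Morphism
import Groth.Agent.EllGrp5.Curve

/-!
# Degree one modules on genus zero curves over a field
-/

set_option autoImplicit false
set_option linter.style.haveILetI false
set_option linter.unusedSectionVars false
set_option backward.isDefEq.respectTransparency.types false
set_option maxHeartbeats 1000000

universe u

open CategoryTheory CategoryTheory.Limits AlgebraicGeometry Opposite TopologicalSpace
open Groth.Agent.Coherent Groth.Agent.PicLib Groth.Agent.AmpleLib Groth.Agent.EulerLib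

namespace Groth.Agent.GenusZero5

open CurveRR24

variable (k : Type u) [Field k] {X : Scheme.{u}} [X.Over (Spec (CommRingCat.of k))]
  [IsProper (X ↘ Spec (CommRingCat.of k))]

/-- A map to the line along which `O(1)` has degree one is an isomorphism. -/
theorem isIso_of_deg_one [IsIntegral X] (hdim : topologicalKrullDim X = 1) (r : X ⟶ CohB1.ProjSpace 1 k)
    (hr : r ≫ CohB1.ProjSpace.toSpec 1 k = X ↘ Spec (CommRingCat.of k))
    (hdeg : Curv2.deg k X ((Scheme.Modules.pullback r).obj (Twist.twistProjSpace 1 k 1)) 1 = 1) : IsIso r := by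
  haveI := isNoetherian_of_proper k (X := X)
  let L := EmbLib24.pbO r
  have hdeg' : Curv2.deg k X L 1 = 1 := hdeg
  have hL : PicF.IsInvertible L := PicLoc.isInvertible_pullback r (isInvertible_twist_one k)
  let σ : Fin (1 + 1) → Γ(L, ⊤) := EmbLib24.sig r
  have hpre : ∀ j, r ⁻¹ᵁ EmbLib24.chart 1 k j = glocus L (σ j) := fun j => EmbLib24.preimage_chart r j
  haveI : IsProper (CohB1.ProjSpace.toSpec 1 k) := CurveLib.isProper_projSpace k 1
  haveI : IsProper (r ≫ CohB1.ProjSpace.toSpec 1 k) := by rw [hr]; infer_instance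
  haveI : IsProper r := IsProper.of_comp r (CohB1.ProjSpace.toSpec 1 k)
  have hnogen : ∀ j, ∃ x, x ∉ glocus L (σ j) := fun j => by
    by_contra hall
    push Not at hall
    by_cases h0 : σ j = 0
    · have hη := hall (genericPoint X)
      rw [h0, mem_glocus_iff_germ hL, map_zero] at hη
      exact hη (zero_mem _)
    have hempty : CohB1.support (cokernel (unitDesc L (σ j))) = ∅ :=
      Set.subset_empty_iff.1 fun x hx => support_cokernel_unitDesc (σ j) hx (hall x)
    haveI := mono_unitDesc hL h0
    haveI : Epi (unitDesc L (σ j)) := Abelian.epi_of_cokernel_π_eq_zero _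
      ((isZero_of_support_eq_empty hempty).eq_of_tgt _ _)
    haveI : IsIso (unitDesc L (σ j)) := isIso_of_mono_of_epi _
    rw [← deg_congr k (asIso (unitDesc L (σ j))) 1, deg_structure] at hdeg'
    exact absurd hdeg' (by norm_num)
  have hfib : ∀ y, (r ⁻¹' {y}).Finite := fun y => by
    by_cases hη : genericPoint X ∈ r ⁻¹' {y}
    · refine (Set.finite_singleton (genericPoint X)).subset fun x hx => ?_
      refine (CurvesLib24.eq_genericPoint_or_isClosed hdim.le x).resolve_right fun hc => ?_
      have hy : IsClosed ({y} : Set (CohB1.ProjSpace 1 k)) := by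
        have := r.isClosedMap _ hc
        rwa [Set.image_singleton, show r x = y from hx] at this
      have hall : ∀ z, r z = y := fun z =>
        ((genericPoint_specializes z).map r.continuous).mem_closed hy hη
      obtain ⟨j, hj⟩ := EmbLib24.exists_chart_mem y
      obtain ⟨z, hz⟩ := hnogen j
      exact hz ((hpre j).le ((hall z).symm ▸ hj : r z ∈ EmbLib24.chart 1 k j))
    · by_cases hy : IsClosed ({y} : Set (CohB1.ProjSpace 1 k))
      · exact (closed_small k hdim.le (hy.preimage r.continuous) hη).1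
      · refine (Set.finite_empty).subset fun x hx => ?_
        rcases CurvesLib24.eq_genericPoint_or_isClosed hdim.le x with h | hc
        · exact hη (h ▸ hx)
        · refine hy ?_
          have := r.isClosedMap _ hc
          rwa [Set.image_singleton, show r x = y from hx] at this
  haveI : LocallyQuasiFinite r := LocallyQuasiFinite.of_finite_preimage_singleton r hfib
  haveI hfin : IsFinite r := IsFinite.of_isProper_of_locallyQuasiFinite r
  haveI hflat : Flat r := flat_of_finite k r hdim
  haveI := CurveLib.isIntegral_projSpace k 1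
  letI : (CohB1.ProjSpace 1 k).Over (Spec (CommRingCat.of k)) := ⟨CohB1.ProjSpace.toSpec 1 k⟩
  haveI : IsProper ((CohB1.ProjSpace 1 k) ↘ Spec (CommRingCat.of k)) :=
    inferInstanceAs (IsProper (CohB1.ProjSpace.toSpec 1 k))
  rw [Scheme.Hom.isIso_iff_finrank_eq]
  funext y
  have h := deg_pullback k r hr (DimLib.PN.topologicalKrullDim_projSpace 1 k).le (isInvertible_twist_one k) y
  rw [deg_twist_one, mul_one, hdeg] at h
  exact_mod_cast h.symm

/-- Away from the first chart of the line there is at most one point. -/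
theorem eq_of_not_mem_chart_zero {y y' : CohB1.ProjSpace 1 k} (hy : y ∉ EmbLib24.chart 1 k 0)
    (hy' : y' ∉ EmbLib24.chart 1 k 0) : y = y' := by
  have hU := EmbLib24.isAffineOpen_chart 1 k (1 : Fin (1 + 1))
  have key : ∀ z : CohB1.ProjSpace 1 k, z ∉ EmbLib24.chart 1 k 0 → ∃ hz : z ∈ EmbLib24.chart 1 k 1,
      (hU.primeIdealOf ⟨z, hz⟩).asIdeal.comap (P1SC24.chartRing k 1) = Ideal.span {Polynomial.X} := by
    intro z hz0
    have hz : z ∈ EmbLib24.chart 1 k 1 :=
      (show z ∈ EmbLib24.chart 1 k 0 ⊔ EmbLib24.chart 1 k 1 from (P1SC24.chart_cover k).symm ▸ trivial).resolve_left hz0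
    refine ⟨hz, ?_⟩
    have hm : (Ideal.span {Polynomial.X} : Ideal (Polynomial k)).IsMaximal :=
      PrincipalIdealRing.isMaximal_of_irreducible Polynomial.irreducible_X
    refine (hm.eq_of_le (Ideal.IsPrime.ne_top inferInstance) ?_).symm
    rw [Ideal.span_singleton_le_iff_mem, Ideal.mem_comap]
    by_contra hmem
    have hb : z ∈ (CohB1.ProjSpace 1 k).basicOpen (P1SC24.chartRing k 1 Polynomial.X) := by
      have hfs := hU.fromSpec_primeIdealOf ⟨z, hz⟩
      have hm' : hU.fromSpec (hU.primeIdealOf ⟨z, hz⟩) ∈ (CohB1.ProjSpace 1 k).basicOpen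
          (P1SC24.chartRing k 1 Polynomial.X) := by
        show hU.primeIdealOf ⟨z, hz⟩ ∈ hU.fromSpec ⁻¹ᵁ (CohB1.ProjSpace 1 k).basicOpen _
        rw [hU.fromSpec_preimage_basicOpen]
        exact hmem
      rwa [hfs] at hm'
    refine hz0 ?_
    have hle : (CohB1.ProjSpace 1 k).basicOpen (P1SC24.chartRing k 1 Polynomial.X) ≤ EmbLib24.chart 1 k 0 := by
      intro w hw
      have e : P1SC24.chartRing k 1 Polynomial.X = EmbLib24.coordFun 1 k 1 0 := by
        show (Proj.awayToSection _ _).hom (P1SC24.sigma k 1 Polynomial.X) = _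
        rw [show P1SC24.sigma k 1 Polynomial.X = EmbLib24.coordFrac 1 k 1 (Fin.rev 1) from Polynomial.eval₂_X _ _]
        rfl
      let f : CohB1.ProjSpace 1 k ⟶ CohB1.ProjSpace 1 k := 𝟙 _
      have h1 : EmbLib24.chart 1 k 1 ≤ glocus (EmbLib24.pbO f) (EmbLib24.sig f 1) :=
        (EmbLib24.preimage_chart f 1).le
      have hgen := (isGen_glocus (EmbLib24.sig f 1)).restrict h1
      rw [resM_resM] at hgen
      have hcoef : hgen.coef le_rfl (resM (EmbLib24.pbO f) le_top (EmbLib24.sig f 0)) =
          EmbLib24.coordFun 1 k 1 0 := hgen.coef_eq le_rfl (by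
        rw [resM_self]
        have := EmbLib24.appLE_coordFun_smul f 1 0 (EmbLib24.chart 1 k 1) le_rfl
        refine Eq.trans (congrArg (· • resM (EmbLib24.pbO f) (le_top : EmbLib24.chart 1 k 1 ≤ ⊤) (EmbLib24.sig f 1)) ?_) this
        exact (ConcreteCategory.congr_hom ((CohB1.ProjSpace 1 k).presheaf.map_id
          (op (EmbLib24.chart 1 k 1))) _).symm)
      have h2 := glocus_inf (EmbLib24.sig f 0) hgen
      rw [hcoef, ← e] at h2
      have h3 : w ∈ glocus (EmbLib24.pbO f) (EmbLib24.sig f 0) ⊓ EmbLib24.chart 1 k 1 := by rw [h2]; exact hw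
      exact (EmbLib24.preimage_chart f 0).ge h3.1
    exact hle hb
  obtain ⟨h1, e1⟩ := key y hy
  obtain ⟨h2, e2⟩ := key y' hy'
  have e : hU.primeIdealOf ⟨y, h1⟩ = hU.primeIdealOf ⟨y', h2⟩ :=
    PrimeSpectrum.ext (Ideal.comap_injective_of_surjective _ (P1SC24.bijective_chartRing k 1).2 (e1.trans e2.symm))
  have := congrArg hU.fromSpec e
  rwa [hU.fromSpec_primeIdealOf, hU.fromSpec_primeIdealOf] at this

variable [SmoothOfRelativeDimension 1 (X ↘ Spec (CommRingCat.of k))]
  [GeometricallyConnected (X ↘ Spec (CommRingCat.of k))] (hg : Curv2.genus k X = 0)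
include hg

theorem h0_h1_deg_one {N : X.Modules} (hN : PicF.IsInvertible N) (hd : Curv2.deg k X N 1 = 1) :
    Module.finrank k (Coh.HH X N 0) = 2 ∧ Module.finrank k (Coh.HH X N 1) = 0 := by
  haveI := EllGrp5.isIntegral_curve k (X := X)
  haveI := isLocallyNoetherian_of_proper k (X := X)
  have hdim := (EllGrp5.dim_curve k (X := X)).le
  haveI : Subsingleton (Coh.HH X N 1) := subsingleton_h1_of_deg k hdim (EllGrp5.h0_structure k) hN (by
    rw [hd, hg]; norm_num)
  have h1 : Module.finrank k (Coh.HH X N 1) = 0 := Module.finrank_zero_of_subsingleton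
  refine ⟨?_, h1⟩
  rw [Curv2.genus] at hg
  simp only [Curv2.deg, Nat.cast_one, one_mul] at hd
  rw [euler_eq_h0_sub_h1 k hdim N (isCoh_of_isInvertible k hN).1, h1,
    euler_eq_h0_sub_h1 k hdim _ (isCoh_structureModule X).1, EllGrp5.h0_structure k, hg] at hd
  omega

/-- A module of degree one is generated by its sections. -/
theorem exists_mem_glocus {N : X.Modules} (hN : PicF.IsInvertible N) (hd : Curv2.deg k X N 1 = 1) (x : X) :
    ∃ t : Γ(N, ⊤), x ∈ glocus N t := by
  haveI := EllGrp5.isIntegral_curve k (X := X)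
  haveI := isNoetherian_of_proper k (X := X)
  have hdim := (EllGrp5.dim_curve k (X := X)).le
  obtain ⟨P, hPx, hP⟩ := (isClosed_closure (s := ({x} : Set X))).exists_closed_singleton ⟨x, subset_closure rfl⟩
  suffices h : ∃ t : Γ(N, ⊤), P ∈ glocus N t by
    obtain ⟨t, ht⟩ := h
    exact ⟨t, (specializes_iff_mem_closure.2 hPx).mem_open (glocus N t).2 ht⟩
  refine exists_mem_glocus_of_h0_ne k hP hN fun he => ?_
  let I := ptIdeal P hP
  have hchi : Curv2.euler k X (CohB1.tensorMod (ClSub.idealMod I) N) =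
      Curv2.euler k X N - (letI := Curv2.resAlgebra k X P; (Module.finrank k (X.residueField P) : ℤ)) := by
    rw [euler_congr k X (tensorComm (ClSub.idealMod I) N)]
    exact euler_tensor_ptIdeal k hP hN
  have hres : 0 < (letI := Curv2.resAlgebra k X P; Module.finrank k (X.residueField P)) := by
    let _ := Curv2.resAlgebra k X P
    haveI := finite_resField hP k
    exact Module.finrank_pos
  rw [finrank_HH_congr k (tensorComm N (ClSub.idealMod I)) 0, (h0_h1_deg_one k hg hN hd).1] at he
  have hnt' : Nontrivial (Coh.HH X (CohB1.tensorMod (ClSub.idealMod I) N) 0) :=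
    Module.nontrivial_of_finrank_pos (R := k) (by omega)
  obtain ⟨z, hz⟩ := exists_ne_zero_of_nontrivial k hnt'
  haveI := mono_twistMul I hN
  have hle := h0_le_of_mono k hdim (isCoh_twist hN (isCoh_idealMod' I)) hN (twistMul I N) hz
  have hd' : Curv2.euler k X N - Curv2.euler k X (Coh.structureModule X) = 1 := by
    rw [← hd]; simp [Curv2.deg]
  have h0O := EllGrp5.h0_structure k (X := X)
  omega

/-- A nonzero section of a module of degree one vanishes at most at one point. -/
theorem eq_of_not_mem_glocus {N : X.Modules} (hN : PicF.IsInvertible N) (hd : Curv2.deg k X N 1 = 1)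
    {t : Γ(N, ⊤)} (ht : t ≠ 0) {x x' : X} (hx : x ∉ glocus N t) (hx' : x' ∉ glocus N t) : x = x' := by
  classical
  haveI := EllGrp5.isIntegral_curve k (X := X)
  haveI := isNoetherian_of_proper k (X := X)
  let φ := baseHom k X
  obtain ⟨h2, -⟩ := h0_h1_deg_one k hg hN hd
  rw [finrank_GA_eq k] at h2
  haveI : Module.Finite k (GA φ N) := Module.finite_of_finrank_pos (by rw [h2]; exact two_pos)
  obtain ⟨w, hw⟩ : ∃ w : GA φ N, LinearIndependent k ![(show GA φ N from t), w] := by
    obtain ⟨w, hw⟩ := exists_linearIndependent_pair_of_one_lt_finrank (R := k) (M := GA φ N) (lt_of_lt_of_eq one_lt_two h2.symm)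
      (show (show GA φ N from t) ≠ 0 from ht)
    exact ⟨w, hw⟩
  let bs := basisOfLinearIndependentOfCardEqFinrank hw ((Fintype.card_fin 2).trans h2.symm)
  have hbs : ∀ i, bs i = ![(show GA φ N from t), w] i := fun i => by simp [bs]
  let σ : Fin (1 + 1) → Γ(N, ⊤) := fun i => (show Γ(N, ⊤) from bs i)
  have hcov : ∀ z : X, ∃ i, z ∈ glocus N (σ i) := fun z => by
    by_contra hcon
    push Not at hcon
    obtain ⟨s, hs⟩ := exists_mem_glocus k hg hN hd z
    rw [show s = ∑ i, ProjUP.toGlobal (X ↘ Spec (CommRingCat.of k)) (bs.repr (show GA φ N from s) i) • σ i from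
      (bs.sum_repr (show GA φ N from s)).symm, mem_glocus_iff_germ hN, map_sum] at hs
    refine hs (Submodule.sum_mem _ fun i _ => ?_)
    rw [QCohLoc.germ_smul']
    exact Submodule.smul_mem _ _ (not_not.1 ((mem_glocus_iff_germ hN _ z).not.1 (hcon i)))
  obtain ⟨r, hr, τ, hτ⟩ := UPLib.exists_hom_projSpace 1 (X ↘ Spec (CommRingCat.of k)) hN σ hcov
  have hpre : r ⁻¹ᵁ EmbLib24.chart 1 k 0 = glocus N t := by
    rw [EmbLib24.preimage_chart r 0, ← glocus_map_iso τ,
      show τ.hom.app ⊤ (EmbLib24.sig r 0) = t from (hτ 0).trans (hbs 0)]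
  haveI : IsIso r := isIso_of_deg_one k (EllGrp5.dim_curve k) r hr (by rw [deg_congr k τ 1, hd])
  refine r.homeomorph.injective (eq_of_not_mem_chart_zero k (fun h => hx ?_) (fun h => hx' ?_))
  · exact hpre.le h
  · exact hpre.le h

end Groth.Agent.GenusZero5
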