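import Groth.Agent.GenusZero5.Examples
import Groth.Agent.JumpP1.Main
import Groth.Agent.SerreDual.Curve
import Groth.Agent.Inters29.PullIdeal
import Groth.Agent.CurveRR24.Sky
import Groth.Agent.ProjLib.BlowUpBasics

/-!
# Genus zero families with disjoint sections
-/

set_option autoImplicit false
set_option linter.style.haveILetI false
set_option linter.unusedSectionVars false
set_option backward.isDefEq.respectTransparency.types false
set_option maxHeartbeats 1000000

universe u

open CategoryTheory CategoryTheory.Limits AlgebraicGeometry Opposite TopologicalSpace Matrix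
open Groth.Agent.Coherent Groth.Agent.PicLib Groth.Agent.AmpleLib Groth.Agent.EllGrp5

namespace Groth.Agent.GenusZero5

/-- A bundle of one module is one of every isomorphic module. -/
theorem isProjBundle_congr {X B : Scheme.{u}} {f : X ⟶ B} {E E' : B.Modules} {N : X.Modules}
    {q : (Scheme.Modules.pullback f).obj E ⟶ N} (hP : KRR.IsProjBundle f E N q) (θ : E ≅ E') :
    KRR.IsProjBundle f E' N ((Scheme.Modules.pullback f).map θ.inv ≫ q) where
  invertible := hP.invertible
  epi := haveI := hP.epi; epi_comp _ _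
  univ T g L hL s hs := by
    obtain ⟨h0, ⟨hg, e, he⟩, huniq⟩ := hP.univ T g L hL ((Scheme.Modules.pullback g).map θ.hom ≫ s) (epi_comp _ _)
    have key : ∀ (h : T ⟶ X) (hh : h ≫ f = g) {M : T.Modules} (e : (Scheme.Modules.pullback h).obj N ⟶ M),
        (Scheme.Modules.pullbackCongr hh).inv.app E' ≫ (Scheme.Modules.pullbackComp h f).inv.app E' ≫
            (Scheme.Modules.pullback h).map ((Scheme.Modules.pullback f).map θ.inv ≫ q) ≫ e =
          (Scheme.Modules.pullback g).map θ.inv ≫ (Scheme.Modules.pullbackCongr hh).inv.app E ≫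
            (Scheme.Modules.pullbackComp h f).inv.app E ≫ (Scheme.Modules.pullback h).map q ≫ e := by
      intro h hh M e
      subst hh
      have h1 : (Scheme.Modules.pullback (h ≫ f)).map θ.inv ≫ (Scheme.Modules.pullbackComp h f).inv.app E =
          (Scheme.Modules.pullbackComp h f).inv.app E' ≫
            (Scheme.Modules.pullback h).map ((Scheme.Modules.pullback f).map θ.inv) :=
        (Scheme.Modules.pullbackComp h f).inv.naturality θ.inv
      simp [Scheme.Modules.pullbackCongr, reassoc_of% h1]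
    refine ⟨h0, ⟨hg, e, ?_⟩, fun k ⟨hk, ek, hek⟩ => huniq k ⟨hk, ek, ?_⟩⟩
    · rw [key h0 hg, he, ← Category.assoc, ← Functor.map_comp, Iso.inv_hom_id, CategoryTheory.Functor.map_id,
        Category.id_comp]
    · rw [← hek, key k hk, ← Category.assoc ((Scheme.Modules.pullback g).map θ.hom), ← Functor.map_comp,
        Iso.hom_inv_id, CategoryTheory.Functor.map_id, Category.id_comp]

theorem exists_isBasisOn_of_rank {X : Scheme.{u}} {N : X.Modules} {n : ℕ} (hN : FlatMod.IsFinLocFreeOfRank n N)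
    (y : X) : ∃ (U : X.Opens) (e : ULift.{u} (Fin n) → Γ(N, U)), y ∈ U ∧ IsBasisOn N U e := by
  classical
  obtain ⟨U₀, hy, ⟨e⟩⟩ := hN y
  let ψ := e ≪≫ (Props12.freeModIso U₀.toScheme n).symm
  let v : ∀ W : U₀.toScheme.Opens, ULift.{u} (Fin n) → Γ(N, U₀.ι ''ᵁ W) := fun W i =>
    (N.restrictAppIso U₀.ι W).hom (unitVal (freeInj i ≫ ψ.inv) W)
  refine ⟨U₀.ι ''ᵁ ⊤, v ⊤, (Scheme.Opens.ι_image_top U₀).ge hy, fun V hV => ?_⟩
  obtain ⟨W, rfl⟩ : ∃ W : U₀.toScheme.Opens, U₀.ι ''ᵁ W = V := by
    refine ⟨U₀.ι ⁻¹ᵁ V, ?_⟩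
    rw [U₀.ι.image_preimage_eq_opensRange_inf, Scheme.Opens.opensRange_ι, inf_eq_right]
    exact hV.trans (Scheme.Opens.ι_image_top U₀).le
  have hres : ∀ i, resM N hV (v ⊤ i) = v W i := fun i => by
    show resM N hV ((N.restrictAppIso U₀.ι ⊤).hom (unitVal _ ⊤)) = (N.restrictAppIso U₀.ι W).hom (unitVal _ W)
    rw [← resM_unitVal (freeInj i ≫ ψ.inv) (le_top : W ≤ ⊤)]
    rfl
  have h1 := ConcreteCategory.bijective_of_isIso (U₀.ι.appIso W).hom
  have h2 := (freeSectionsEquiv (X := U₀.toScheme) (I := ULift.{u} (Fin n)) W).symm.bijective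
  have h3 := ConcreteCategory.bijective_of_isIso (C := AddCommGrpCat) (ψ.inv.app W)
  have h4 := ConcreteCategory.bijective_of_isIso (N.restrictAppIso U₀.ι W).hom
  have h1' : Function.Bijective (fun c : ULift.{u} (Fin n) → Γ(X, U₀.ι ''ᵁ W) => fun i => (U₀.ι.appIso W).hom (c i)) :=
    Function.Bijective.piMap fun _ => h1
  convert h4.comp (h3.comp (h2.comp h1')) using 1
  funext c
  simp only [Function.comp_apply, hres]
  rw [freeMod_app, map_sum]
  refine Finset.sum_congr rfl fun i _ => ?_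
  refine Eq.trans ?_ (Scheme.Modules.smul_restrictAppIso_hom_apply U₀.ι N W _ _).symm
  congr 1
  show c i = (U₀.ι.appIso W).inv (freeSectionsEquiv W ((freeSectionsEquiv W).symm _) i)
  rw [LinearEquiv.apply_symm_apply, ← ConcreteCategory.comp_apply, Iso.hom_inv_id]
  rfl

variable {X S : Scheme.{u}} {f : X ⟶ S}

/-- Evaluation of the direct image along a section. -/
noncomputable def ev (N : X.Modules) (σ : S ⟶ X) (hσ : σ ≫ f = 𝟙 S) :
    (Scheme.Modules.pushforward f).obj N ⟶ (Scheme.Modules.pullback σ).obj N :=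
  (Scheme.Modules.pushforward f).map ((Scheme.Modules.pullbackPushforwardAdjunction σ).unit.app N) ≫
    (Scheme.Modules.pushforwardComp σ f).hom.app ((Scheme.Modules.pullback σ).obj N) ≫
    (Scheme.Modules.pushforwardCongr hσ).hom.app ((Scheme.Modules.pullback σ).obj N) ≫
    (Scheme.Modules.pushforwardId S).hom.app ((Scheme.Modules.pullback σ).obj N)

theorem ev_app (N : X.Modules) (σ : S ⟶ X) (hσ : σ ≫ f = 𝟙 S) (V : S.Opens)
    (x : Γ(N, f ⁻¹ᵁ V)) :
    (ev N σ hσ).app V x = resM ((Scheme.Modules.pullback σ).obj N)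
      (show V ≤ σ ⁻¹ᵁ (f ⁻¹ᵁ V) from fun y hy => by
        show f (σ y) ∈ V
        rw [← Scheme.Hom.comp_apply, hσ]
        exact hy) (pullSec σ x) := by
  rfl

variable [IsProper f] [SmoothOfRelativeDimension 1 f] [GeometricallyConnected f]
  (hg : ∀ s : S, CohIII.fiberRank f (Coh.structureModule X) 1 s = 0)
  {N : X.Modules} (hN : PicF.IsInvertible N) (hd : ∀ s, dg f s (PicM.of hN) = 1)
  (σ : Fin 2 → (S ⟶ X)) (hσ : ∀ i, σ i ≫ f = 𝟙 S) (hdisj : ∀ s, σ 0 s ≠ σ 1 s)

include hg hN hd hσ hdisj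

theorem isIso_evPair :
    IsIso (biprod.lift (ev N (σ 0) (hσ 0)) (ev N (σ 1) (hσ 1))) := by
  classical
  haveI := smooth_f f
  let E := (Scheme.Modules.pushforward f).obj N
  let L : Fin 2 → S.Modules := fun i => (Scheme.Modules.pullback (σ i)).obj N
  let φ : E ⟶ L 0 ⊞ L 1 := biprod.lift (ev N (σ 0) (hσ 0)) (ev N (σ 1) (hσ 1))
  -- local bijectivity
  have hloc : ∀ s : S, ∃ W : S.Opens, s ∈ W ∧ ∀ V ≤ W, Function.Bijective (φ.app V) := by
    intro s
    obtain ⟨U, e, hsU, hb⟩ := exists_isBasisOn_of_rank (push_locFree f hg hN hd) s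
    choose V₀ hxV g hgen using fun i => exists_isGen hN (σ i s)
    let O : Fin 2 → X.Opens := fun i => V₀ i ⊓ f ⁻¹ᵁ U
    have hgO : ∀ i, IsGen N (O i) (resM N inf_le_left (g i)) := fun i => (hgen i).restrict inf_le_left
    let c : ∀ i, ULift.{u} (Fin 2) → Γ(X, O i) := fun i j =>
      (hgO i).coef le_rfl (resM N inf_le_right (show Γ(N, f ⁻¹ᵁ U) from e j))
    let W : S.Opens := U ⊓ (σ 0 ⁻¹ᵁ O 0 ⊓ σ 1 ⁻¹ᵁ O 1)
    have hsσ : ∀ i, σ i s ∈ O i := fun i =>
      ⟨hxV i, by show f (σ i s) ∈ U; rw [← Scheme.Hom.comp_apply, hσ i]; exact hsU⟩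
    have hsW : s ∈ W := ⟨hsU, hsσ 0, hsσ 1⟩
    have hWO : ∀ i, W ≤ σ i ⁻¹ᵁ O i := fun i => by
      fin_cases i
      · exact inf_le_right.trans inf_le_left
      · exact inf_le_right.trans inf_le_right
    let m : Matrix (Fin 2) (Fin 2) Γ(S, W) := Matrix.of fun i j => res (hWO i) ((σ i).app (O i) (c i ⟨j⟩))
    let γ : ∀ i, Γ(L i, W) := fun i => resM (L i) (hWO i) (pullSec (σ i) (resM N inf_le_left (g i)))
    have hγ : ∀ i, IsGen (L i) W (γ i) := fun i => (isGen_pullSec (σ i) (hgO i) hN).restrict (hWO i)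
    -- the determinant is a unit at `s`
    have hdet : s ∈ S.basicOpen m.det := by
      by_contra hns
      letI := Clifford24.fibreOver f s
      obtain ⟨i1, i2, i3⟩ := fibre_inst f s
      haveI : IsProper (f.fiber s ↘ Spec (CommRingCat.of (S.residueField s))) := i1
      haveI : SmoothOfRelativeDimension 1 (f.fiber s ↘ Spec (CommRingCat.of (S.residueField s))) := i2
      haveI : GeometricallyConnected (f.fiber s ↘ Spec (CommRingCat.of (S.residueField s))) := i3
      have hd' := hd s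
      rw [dg_of] at hd'
      let ξ := S.fromSpecResidueField s
      let q := f.fiberToSpecResidueField s
      let ι := f.fiberι s
      have hsq : IsPullback ι q f ξ := IsPullback.of_hasPullback f ξ
      haveI := isIso_bc0 f hg hN hd hsq
      let β := CohBC.bc0 f ξ q ι hsq.w N
      have hξ : ∀ y, ξ y = s := S.fromSpecResidueField_apply s
      let A := Γ(Spec (S.residueField s), ⊤)
      haveI : IsDomain A :=
        MulEquiv.isDomain (S.residueField s)
          (Scheme.ΓSpecIso (S.residueField s)).commRingCatIsoToRingEquiv.toMulEquiv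
      let ev₀ : Γ(S, W) →+* A := (ξ.appLE W ⊤ (fun y _ => by show ξ y ∈ W; rw [hξ]; exact hsW)).hom
      have hdet0 : (ev₀.mapMatrix m).det = 0 := by
        rw [← RingHom.map_det]
        have h0 : ξ.app W m.det = 0 := by
          rw [← basicOpen_eq_bot_iff, ← Scheme.preimage_basicOpen]
          refine eq_bot_iff.2 fun y hy => ?_
          have hy' : ξ y ∈ S.basicOpen m.det := hy
          rw [hξ] at hy'
          exact hns hy'
        show ξ.appLE W ⊤ _ m.det = 0
        rw [Scheme.Hom.appLE, CommRingCat.comp_apply, h0, map_zero]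
      obtain ⟨a, ha, hma⟩ := Matrix.exists_mulVec_eq_zero_iff.2 hdet0
      have htop : (⊤ : (Spec (S.residueField s)).Opens) ≤ ξ ⁻¹ᵁ U := fun y _ => by
        show ξ y ∈ U; rw [hξ]; exact hsU
      have hbp := IsBasisOn.pull ξ hb
      let Ns := CohIII.fiberMod f N s
      let t' : Γ((Scheme.Modules.pullback ξ).obj E, ⊤) :=
        ∑ j : ULift.{u} (Fin 2), a j.down • resM _ htop (pullSec ξ (e j))
      have ht' : t' ≠ 0 := fun h0 => ha (funext fun j => by
        have := congrFun ((hbp htop).1 (a₁ := fun j : ULift.{u} (Fin 2) => a j.down) (a₂ := 0)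
          (by simpa using h0)) ⟨j⟩
        exact this)
      let t : Γ(Ns, ⊤) := (show Γ(Ns, ⊤) from β.app ⊤ t')
      have ht : t ≠ 0 := fun h0 => ht' ((ConcreteCategory.bijective_of_isIso (β.app ⊤)).1
        (h0.trans (map_zero (β.app ⊤).hom).symm))
      have hvanish : ∀ i, ∃ z, ι z = σ i s ∧ z ∉ glocus Ns t := by
        intro i
        let Ps : Spec (S.residueField s) ⟶ f.fiber s :=
          pullback.lift (ξ ≫ σ i) (𝟙 _) (by rw [Category.assoc, hσ i, Category.comp_id, Category.id_comp])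
        have hPι : Ps ≫ ι = ξ ≫ σ i := pullback.lift_fst _ _ _
        have hPq : Ps ≫ q = 𝟙 _ := pullback.lift_snd _ _ _
        let pt : Spec (S.residueField s) := IsLocalRing.closedPoint (S.residueField s)
        refine ⟨Ps pt, by rw [← Scheme.Hom.comp_apply, hPι, Scheme.Hom.comp_apply, hξ], fun hz => ?_⟩
        let O' : (f.fiber s).Opens := ι ⁻¹ᵁ O i
        have hzO : Ps pt ∈ O' := by
          show ι (Ps pt) ∈ O i
          rw [← Scheme.Hom.comp_apply, hPι, Scheme.Hom.comp_apply, hξ]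
          exact hsσ i
        have hg' := isGen_pullSec ι (hgO i) hN
        let K : Γ(f.fiber s, O') := ∑ j : ULift.{u} (Fin 2),
          res (show O' ≤ q ⁻¹ᵁ ⊤ from le_top) (q.app ⊤ (a j.down)) * (show Γ(f.fiber s, O') from ι.app (O i) (c i j))
        have hres : K • pullSec ι (resM N inf_le_left (g i)) = resM Ns (le_top : O' ≤ ⊤) t := by
          show _ = resM Ns (le_top : O' ≤ ⊤) (β.app ⊤ t')
          rw [Finset.sum_smul]
          erw [map_sum, map_sum]
          refine Finset.sum_congr rfl fun j _ => ?_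
          rw [Scheme.Modules.Hom.app_smul, app_resM]
          erw [CohExch.bc0_pullSec hsq.w N U (show Γ(N, f ⁻¹ᵁ U) from e j)]
          show _ = resM Ns (le_top : O' ≤ ⊤) (HSMul.hSMul (α := Γ(f.fiber s, ⊤)) (β := Γ(Ns, ⊤)) (γ := Γ(Ns, ⊤))
            (q.app ⊤ (a j.down)) (resM Ns (show (⊤ : (f.fiber s).Opens) ≤ q ⁻¹ᵁ (ξ ⁻¹ᵁ U) from fun y hy => htop hy)
              (resM Ns (show q ⁻¹ᵁ (ξ ⁻¹ᵁ U) ≤ ι ⁻¹ᵁ (f ⁻¹ᵁ U) from fun y _ => by
                show f (f.fiberι s y) ∈ U; rw [show f (f.fiberι s y) = s from (f.range_fiberι s).le ⟨y, rfl⟩]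
                exact hsU) (pullSec ι (show Γ(N, f ⁻¹ᵁ U) from e j)))))
          rw [resM_smul, resM_resM, resM_resM, mul_smul]
          refine congrArg (_ • ·) ?_
          have hs := (hgO i).coef_spec le_rfl (resM N inf_le_right (show Γ(N, f ⁻¹ᵁ U) from e j))
          rw [resM_self] at hs
          have h1 := congrArg (pullSec ι) hs
          rw [pullSec_smul] at h1
          refine h1.trans ?_
          rw [← resM_pullSec]
        have hco : hg'.coef le_rfl (resM Ns (le_top : O' ≤ ⊤) t) = K :=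
          hg'.coef_eq le_rfl (by rw [resM_self]; exact hres)
        have hmem : Ps pt ∈ (f.fiber s).basicOpen K := by
          rw [← hco, ← glocus_inf t hg']
          exact ⟨hz, hzO⟩
        have hK : Ps.app O' K = 0 := by
          rw [map_sum]
          have hrow := congrFun hma i
          simp only [Matrix.mulVec, dotProduct, RingHom.mapMatrix_apply, Matrix.map_apply, Pi.zero_apply] at hrow
          let ρ : A →+* Γ(Spec (S.residueField s), Ps ⁻¹ᵁ O') :=
            (((Spec (S.residueField s)).presheaf.map (homOfLE (le_top : Ps ⁻¹ᵁ O' ≤ ⊤)).op)).hom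
          have hsum : ∑ j : ULift.{u} (Fin 2), ρ (ev₀ (m i j.down) * a j.down) = 0 := by
            rw [← map_sum ρ, show (∑ j : ULift.{u} (Fin 2), ev₀ (m i j.down) * a j.down) = 0 from
              (Fintype.sum_equiv Equiv.ulift _ (fun j => ev₀ (m i j) * a j) (fun _ => rfl)).trans hrow, map_zero]
          refine Eq.trans (Finset.sum_congr rfl fun j _ => ?_) hsum
          rw [map_mul, map_mul, mul_comm (ρ (ev₀ _))]
          refine congrArg₂ (· * ·) ?_ ?_
          · show (q.app ⊤ ≫ (f.fiber s).presheaf.map _ ≫ Ps.app O') (a j.down) = ρ (a j.down)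
            rw [← Scheme.Hom.appLE_eq_app (f := Ps), Scheme.Hom.map_appLE, Scheme.Hom.app_eq_appLE,
              Scheme.Hom.appLE_comp_appLE, ← Category.id_comp (Scheme.Hom.appLE _ _ _ _)]
            simp only [hPq]
            simp [ρ, Scheme.Hom.appLE]
          · show (ι.app (O i) ≫ Ps.app O') (c i j) =
              (((σ i).app (O i) ≫ S.presheaf.map (homOfLE (hWO i)).op) ≫ ξ.appLE W ⊤ _ ≫
                (Spec (S.residueField s)).presheaf.map _) (c i j)
            rw [Category.assoc, Scheme.Hom.appLE_map, Scheme.Hom.map_appLE, Scheme.Hom.app_eq_appLE,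
              Scheme.Hom.app_eq_appLE, Scheme.Hom.appLE_comp_appLE, Scheme.Hom.app_eq_appLE,
              Scheme.Hom.appLE_comp_appLE]
            simp only [hPι]
        have hmem' : pt ∈ Ps ⁻¹ᵁ (f.fiber s).basicOpen K := hmem
        rw [Scheme.preimage_basicOpen, hK, Scheme.basicOpen_zero] at hmem'
        exact hmem'
      obtain ⟨z₀, hz₀, hn₀⟩ := hvanish 0
      obtain ⟨z₁, hz₁, hn₁⟩ := hvanish 1
      have := eq_of_not_mem_glocus (S.residueField s) (genus_fibre f hg s) (isInvertible_fibre f hN s) hd' ht hn₀ hn₁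
      exact hdisj s (by rw [← hz₀, ← hz₁, this])
    refine ⟨S.basicOpen m.det, hdet, fun V hV => ?_⟩
    have hVW : V ≤ W := hV.trans (S.basicOpen_le _)
    have hu : IsUnit (res hVW m.det) := by
      have h1 : IsUnit (res (S.basicOpen_le m.det) m.det) := RingedSpace.isUnit_res_basicOpen _ m.det
      have h2 := h1.map (S.presheaf.map (homOfLE hV).op).hom
      rw [show (S.presheaf.map (homOfLE hV).op).hom (res (S.basicOpen_le m.det) m.det) = res hVW m.det from
        PicLib.res_res _ _ _] at h2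
      exact h2
    let M : Matrix (Fin 2) (Fin 2) Γ(S, V) := m.map (res hVW)
    have hM : Function.Bijective M.mulVec := by
      suffices h : IsUnit M from ⟨Matrix.mulVec_injective_of_isUnit h, Matrix.mulVec_surjective_iff_isUnit.2 h⟩
      refine (Matrix.isUnit_iff_isUnit_det M).2 ?_
      have : M.det = res hVW m.det :=
        (RingHom.map_det (S.presheaf.map (homOfLE hVW).op).hom m).symm
      rw [this]
      exact hu
    -- coordinates
    let Φ : (Fin 2 → Γ(S, V)) → Γ(L 0 ⊞ L 1, V) := fun r =>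
      (biprod.inl : L 0 ⟶ L 0 ⊞ L 1).app V (r 0 • resM (L 0) hVW (γ 0)) +
        (biprod.inr : L 1 ⟶ L 0 ⊞ L 1).app V (r 1 • resM (L 1) hVW (γ 1))
    have happ : ∀ {A B C : S.Modules} (u : A ⟶ B) (v : B ⟶ C) (x : Γ(A, V)), v.app V (u.app V x) = (u ≫ v).app V x :=
      fun u v x => by rw [Scheme.Modules.Hom.comp_app]; rfl
    have htot : ∀ x : Γ(L 0 ⊞ L 1, V), x = (biprod.inl : L 0 ⟶ L 0 ⊞ L 1).app V ((biprod.fst : L 0 ⊞ L 1 ⟶ _).app V x) +
        (biprod.inr : L 1 ⟶ L 0 ⊞ L 1).app V ((biprod.snd : L 0 ⊞ L 1 ⟶ _).app V x) := fun x => by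
      rw [happ, happ]
      conv_lhs => rw [show x = (𝟙 (L 0 ⊞ L 1) : _ ⟶ _).app V x from rfl, ← biprod.total]
      rfl
    have hΦ : Function.Bijective Φ := by
      refine ⟨fun r r' h => ?_, fun x => ?_⟩
      · have h0 := congrArg ((biprod.fst : L 0 ⊞ L 1 ⟶ _).app V) h
        have h1 := congrArg ((biprod.snd : L 0 ⊞ L 1 ⟶ _).app V) h
        simp only [Φ, map_add, happ, biprod.inl_fst, biprod.inr_fst, biprod.inl_snd, biprod.inr_snd] at h0 h1
        simp at h0 h1
        funext i
        fin_cases i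
        · exact (hγ 0 V hVW).1 h0
        · exact (hγ 1 V hVW).1 h1
      · obtain ⟨r₀, hr₀⟩ := (hγ 0 V hVW).2 ((biprod.fst : L 0 ⊞ L 1 ⟶ _).app V x)
        obtain ⟨r₁, hr₁⟩ := (hγ 1 V hVW).2 ((biprod.snd : L 0 ⊞ L 1 ⟶ _).app V x)
        refine ⟨![r₀, r₁], ?_⟩
        show _ + _ = x
        rw [htot x, ← hr₀, ← hr₁]
        rfl
    have hVU : V ≤ U := hVW.trans inf_le_left
    have hcomp : ∀ b : ULift.{u} (Fin 2) → Γ(S, V),
        φ.app V (∑ j, b j • resM E hVU (e j)) = Φ (M.mulVec fun j => b ⟨j⟩) := by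
      intro b
      refine (htot _).trans ?_
      have hev : ∀ i (j : ULift.{u} (Fin 2)), (ev N (σ i) (hσ i)).app V (resM E hVU (e j)) =
          M i j.down • resM (L i) hVW (γ i) := by
        intro i j
        rw [app_resM]
        erw [ev_app N (σ i) (hσ i) U (show Γ(N, f ⁻¹ᵁ U) from e j)]
        show resM (L i) _ (resM (L i) _ (pullSec (σ i) (show Γ(N, f ⁻¹ᵁ U) from e j))) =
          res hVW (res (hWO i) _) • resM (L i) hVW (resM (L i) _ _)
        have hs := (hgO i).coef_spec le_rfl (resM N inf_le_right (show Γ(N, f ⁻¹ᵁ U) from e j))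
        rw [resM_self] at hs
        have h1 := congrArg (fun z => resM (L i) (hVW.trans (hWO i)) (pullSec (σ i) z)) hs
        simp only [pullSec_smul, resM_smul] at h1
        rw [resM_resM, resM_resM, PicLib.res_res]
        refine Eq.trans ?_ h1.symm
        rw [← resM_pullSec, resM_resM]
      refine congrArg₂ (· + ·) (congrArg _ ?_) (congrArg _ ?_) <;>
        rw [happ] <;>
        simp only [φ, biprod.lift_fst, biprod.lift_snd, map_sum, Scheme.Modules.Hom.app_smul, hev, smul_smul] <;>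
        rw [← Finset.sum_smul] <;>
        refine congrArg (· • _) ?_ <;>
        rw [Matrix.mulVec, dotProduct, ← Equiv.ulift.{u}.symm.sum_comp] <;>
        exact Finset.sum_congr rfl fun j _ => mul_comm _ _
    have hsplit : φ.app V ∘ (fun b : ULift.{u} (Fin 2) → Γ(S, V) => ∑ j, b j • resM E hVU (e j)) =
        Φ ∘ M.mulVec ∘ fun b j => b ⟨j⟩ := funext hcomp
    have hre : Function.Bijective (fun (b : ULift.{u} (Fin 2) → Γ(S, V)) (j : Fin 2) => b ⟨j⟩) :=
      (Equiv.arrowCongr Equiv.ulift (Equiv.refl _)).bijective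
    exact (Function.Bijective.of_comp_iff _ (hb hVU)).1 (hsplit ▸ hΦ.comp (hM.comp hre))
  choose W hsW hW using hloc
  haveI : Mono φ := SerreDual.mono_of_app_injective _ fun V => (injective_iff_map_eq_zero _).2 fun x hx =>
    Props12.eq_of_nhds E x 0 fun y hy => ⟨V ⊓ W y, inf_le_left, ⟨hy, hsW y⟩,
      (hW y _ inf_le_right).1 (by rw [app_resM, hx, map_zero, map_zero, map_zero])⟩
  haveI : Epi φ := Coherent.epi_of_locally_surjective φ fun V x y hy =>
    ⟨V ⊓ W y, inf_le_left, ⟨hy, hsW y⟩, (hW y _ inf_le_right).2 _⟩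
  exact isIso_of_mono_of_epi φ

/-- A genus zero family with two disjoint sections. -/
theorem exists_bundle_sum :
    ∃ q : (Scheme.Modules.pullback f).obj ((Scheme.Modules.pullback (σ 0)).obj N ⊞
        (Scheme.Modules.pullback (σ 1)).obj N) ⟶ N,
      KRR.IsProjBundle f ((Scheme.Modules.pullback (σ 0)).obj N ⊞ (Scheme.Modules.pullback (σ 1)).obj N) N q := by
  haveI := isIso_evPair hg hN hd σ hσ hdisj
  exact ⟨_, isProjBundle_congr (isProjBundle_push f hg hN hd)
    (asIso (biprod.lift (ev N (σ 0) (hσ 0)) (ev N (σ 1) (hσ 1))))⟩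

omit hg hd hσ hdisj in
/-- The inverse of the ideal of a section is trivial along a disjoint one. -/
theorem nonempty_pullback_trivial (τ ρ : S ⟶ X) (hτ : τ ≫ f = 𝟙 S) (hρ : Disjoint (Set.range ρ) (Set.range τ))
    (h : PicM.of hN * idl f τ hτ = 1) :
    Nonempty ((Scheme.Modules.pullback ρ).obj N ≅ Coh.structureModule S) := by
  haveI := smooth_f f
  haveI := isClosedImmersion_section f τ hτ
  let I := τ.ker
  have hsupp : ((I.comap ρ).support : Set S) = ∅ := by
    rw [Scheme.IdealSheafData.support_comap]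
    refine Set.eq_empty_of_forall_notMem fun y hy => ?_
    have hy' : ρ y ∈ (I.support : Set X) := hy
    rw [Scheme.Hom.support_ker, IsClosed.closure_eq τ.isClosedEmbedding.isClosed_range] at hy'
    exact hρ.le_bot ⟨⟨y, rfl⟩, hy'⟩
  haveI : IsIso (ClSub.idealModι (I.comap ρ)) := by
    have hz : IsZero (ClSub.quotMod (I.comap ρ)) := EulerLib.isZero_of_support_eq_empty
      (Set.eq_empty_of_subset_empty (hsupp ▸ CurveRR24.support_quotMod_subset (I.comap ρ)))
    exact kernel.ι_of_zero (hz.eq_of_tgt _ _)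
  have hI' : BlowUp.IsEffCartierIdeal (I.comap ρ) := by
    have : I.comap ρ = ⊤ := by
      rw [← Scheme.IdealSheafData.support_eq_bot_iff]
      exact SetLike.coe_injective (by rw [hsupp]; rfl)
    rw [this]
    exact ProjLib.isEffCartierIdeal_top
  obtain ⟨e⟩ := Inters29.nonempty_pullback_idealMod_iso ρ I (isEffCartier_sec f τ hτ) hI'
  have h1 := congrArg (PicM.pull ρ) h
  rw [map_mul, map_one, idl, PicM.pull_of, PicM.pull_of] at h1
  have h2 : PicM.of (PicLoc.isInvertible_pullback ρ
      (FlatMor12.IdealModGen.isInvertible_idealMod τ.ker (isEffCartier_sec f τ hτ))) = (1 : PicM S) :=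
    (PicM.of_eq_iff _ _).2 ⟨e ≪≫ asIso (ClSub.idealModι (I.comap ρ))⟩
  rw [h2, _root_.mul_one] at h1
  exact (PicM.of_eq_iff _ _).1 h1

end Groth.Agent.GenusZero5
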